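import Groth.Agent.Lib.PBC25.Extend
import Groth.Agent.Lib.Cech.Compare
import Groth.Agent.Lib.SheafCoh.Top

/-!
# Soft sheaves on compact Hausdorff spaces are acyclic
-/

set_option autoImplicit false
set_option backward.isDefEq.respectTransparency false
set_option backward.isDefEq.respectTransparency.types false

universe u

open CategoryTheory CategoryTheory.Limits Opposite TopologicalSpace

namespace GrothLib.PBC25

variable {K : TopCat.{u}}

theorem isSoft_of_flasque (F : CohTop.Ab K) [h : TopCat.Sheaf.IsFlasque F] : IsSoft F := by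
  intro A _ U hAU s
  obtain ⟨t, rfl⟩ := (AddCommGrpCat.epi_iff_surjective _).1
    (h.epi (homOfLE (le_top : U ≤ ⊤)).op) s
  exact ⟨t, U, le_rfl, hAU, (res_self F le_rfl _).symm⟩

variable {S : ShortComplex (CohTop.Ab K)}

/-- A section of the quotient lifts near `A`. -/
def Lifts {U : Opens K} (s : S.X₃.obj.obj (op U)) (A : Set K) : Prop :=
  ∃ (W : Opens K) (hW : W ≤ U) (t : S.X₂.obj.obj (op W)), A ⊆ (W : Set K) ∧
    S.g.hom.app (op W) t = S.X₃.obj.map (homOfLE hW).op s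

theorem lifts_union [CompactSpace K] [T2Space K] (hS : S.ShortExact) (h₁ : IsSoft S.X₁)
    {U : Opens K} (s : S.X₃.obj.obj (op U)) {A B : Set K} (hA : IsClosed A) (hB : IsClosed B)
    (l₁ : Lifts s A) (l₂ : Lifts s B) : Lifts s (A ∪ B) := by
  obtain ⟨W₁, u₁, t₁, hA₁, e₁⟩ := l₁
  obtain ⟨W₂, u₂, t₂, hB₂, e₂⟩ := l₂
  obtain ⟨r, hr⟩ := Cech.sections_exact hS (W₁ ⊓ W₂)
    (S.X₂.obj.map (homOfLE inf_le_left).op t₁ - S.X₂.obj.map (homOfLE inf_le_right).op t₂) (by
      rw [map_sub, app_res, app_res, e₁, e₂, res_res, res_res, sub_self])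
  obtain ⟨r', W, hW, hAB, hr'⟩ := h₁ (hA.inter hB) (W₁ ⊓ W₂)
    (fun x hx => ⟨hA₁ hx.1, hB₂ hx.2⟩) r
  obtain ⟨O₁, O₂, o₁, o₂, hAO, hBO, hdisj⟩ :=
    SeparatedNhds.of_isCompact_isCompact (hA.sdiff W.isOpen).isCompact
      (hB.sdiff W.isOpen).isCompact (by
        rw [Set.disjoint_left]
        exact fun x hxA hxB => hxA.2 (hAB ⟨hxA.1, hxB.1⟩))
  let P₁ : Opens K := W₁ ⊓ (⟨O₁, o₁⟩ ⊔ W)
  let P₂ : Opens K := W₂ ⊓ (⟨O₂, o₂⟩ ⊔ W)
  have hP : P₁ ⊓ P₂ ≤ W := by
    rintro y ⟨⟨-, h₁ | h₁⟩, -, h₂ | h₂⟩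
    · exact (Set.disjoint_left.1 hdisj h₁ h₂).elim
    all_goals assumption
  have heq : S.X₂.obj.map (homOfLE (hW.trans inf_le_left)).op t₁ =
      S.X₂.obj.map (homOfLE (hW.trans inf_le_right)).op t₂ +
        S.f.hom.app (op W) (S.X₁.obj.map (homOfLE (le_top : W ≤ ⊤)).op r') := by
    rw [hr', app_res, hr, map_sub, res_res, res_res, add_sub_cancel]
  obtain ⟨t, ht₁, ht₂⟩ := glue₂ S.X₂ (S.X₂.obj.map (homOfLE (inf_le_left : P₁ ≤ W₁)).op t₁)
    (S.X₂.obj.map (homOfLE (inf_le_left : P₂ ≤ W₂)).op t₂ +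
      S.f.hom.app (op P₂) (S.X₁.obj.map (homOfLE (le_top : P₂ ≤ ⊤)).op r')) (by
      have := congrArg (S.X₂.obj.map (homOfLE hP).op) heq
      rw [map_add, res_res, res_res, ← app_res, res_res] at this
      rw [map_add, res_res, res_res, ← app_res, res_res]
      exact this)
  refine ⟨P₁ ⊔ P₂, sup_le (inf_le_left.trans u₁) (inf_le_left.trans u₂), t, ?_, ?_⟩
  · rintro x (hx | hx)
    · refine Or.inl ⟨hA₁ hx, ?_⟩
      by_cases h0 : x ∈ W
      · exact Or.inr h0
      · exact Or.inl (hAO ⟨hx, h0⟩)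
    · refine Or.inr ⟨hB₂ hx, ?_⟩
      by_cases h0 : x ∈ W
      · exact Or.inr h0
      · exact Or.inl (hBO ⟨hx, h0⟩)
  · refine eq_of_cover _ fun x hx => ?_
    rcases hx with hx | hx
    · refine ⟨P₁, le_sup_left, hx, ?_⟩
      rw [res_res, ← app_res, ht₁, app_res, e₁, res_res]
    · refine ⟨P₂, le_sup_right, hx, ?_⟩
      have hz : S.g.hom.app (op P₂) (S.f.hom.app (op P₂)
          (S.X₁.obj.map (homOfLE (le_top : P₂ ≤ ⊤)).op r')) = 0 :=
        ConcreteCategory.congr_hom (congrArg (fun k => k.hom.app (op P₂)) S.zero) _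
      rw [res_res, ← app_res, ht₂, map_add, hz, add_zero, app_res, e₂, res_res]

/-- Sections of a quotient by a soft sheaf lift near a closed set. -/
theorem exists_lift [CompactSpace K] [T2Space K] (hS : S.ShortExact) (h₁ : IsSoft S.X₁)
    {U : Opens K} (s : S.X₃.obj.obj (op U)) {A : Set K} (hA : IsClosed A)
    (hAU : A ⊆ (U : Set K)) : Lifts s A := by
  suffices h : Lifts s (closure A) by rw [← hA.closure_eq]; exact h
  refine hA.isCompact.induction_on (p := fun T => Lifts s (closure T)) ?_ ?_ ?_ ?_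
  · exact ⟨⊥, bot_le, 0, by simp, eq_of_cover _ fun x hx => hx.elim⟩
  · rintro T T' hTT ⟨W, u, t, hW, e⟩
    exact ⟨W, u, t, (closure_mono hTT).trans hW, e⟩
  · intro T T' l₁ l₂
    rw [closure_union]
    exact lifts_union hS h₁ s isClosed_closure isClosed_closure l₁ l₂
  · intro x hx
    have := hS.epi_g
    obtain ⟨V, f, ⟨t, ht⟩, hxV⟩ := SheafCoh.imageSieve_mem_of_epi
      (J := Opens.grothendieckTopology K) S.g s x (hAU hx)
    obtain ⟨N, hNc, hxN, hNV⟩ := exists_compact_subset V.isOpen hxV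
    exact ⟨interior N, mem_nhdsWithin_of_mem_nhds (isOpen_interior.mem_nhds hxN),
      V, leOfHom f, t, (closure_minimal interior_subset hNc.isClosed).trans hNV, ht⟩

theorem surjective_top [CompactSpace K] [T2Space K] (hS : S.ShortExact) (h₁ : IsSoft S.X₁) :
    Function.Surjective (S.g.hom.app (op ⊤)) := by
  intro s
  obtain ⟨W, hW, t, hKW, e⟩ := exists_lift hS h₁ s isClosed_univ (by simp)
  obtain rfl : W = ⊤ := eq_top_iff.2 fun x _ => hKW trivial
  exact ⟨t, e.trans (res_self _ hW s)⟩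

theorem isSoft_X₃ [CompactSpace K] [T2Space K] (hS : S.ShortExact) (h₁ : IsSoft S.X₁)
    (h₂ : IsSoft S.X₂) : IsSoft S.X₃ := by
  intro A hA U hAU s
  obtain ⟨W, hW, t, hAW, e⟩ := exists_lift hS h₁ s hA hAU
  obtain ⟨t', W', hW', hAW', e'⟩ := h₂ hA W hAW t
  refine ⟨S.g.hom.app (op ⊤) t', W', hW'.trans hW, hAW', ?_⟩
  rw [← app_res, e', app_res, e, res_res]

theorem soft_HU_top_subsingleton [CompactSpace K] [T2Space K] (F : CohTop.Ab K) (hF : IsSoft F)
    (n : ℕ) : Subsingleton (CohTop.HU F (n + 1) ⊤) :=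
  SheafCoh.subsingleton_HU_of_class (J := Opens.grothendieckTopology K) (⊤ : Opens K) IsSoft
    (fun G hG => by
      have hS : ShortComplex.ShortExact (SheafCoh.injSES G) := SheafCoh.injSES_shortExact G
      have h₂ : IsSoft (SheafCoh.injSES G).X₂ :=
        @isSoft_of_flasque _ (Injective.under G) (SheafCoh.isFlasque_of_injective _)
      have := SheafCoh.isFlasque_of_injective (Injective.under G)
      have a := isSoft_X₃ hS hG h₂
      have b := surjective_top hS hG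
      exact ⟨a, b⟩) F hF n

theorem soft_H_subsingleton [CompactSpace K] [T2Space K] (F : CohTop.Ab K) (hF : IsSoft F)
    (n : ℕ) : Subsingleton (CohTop.H F (n + 1)) :=
  @Equiv.subsingleton _ _
    (SheafCoh.HEquivHU (J := Opens.grothendieckTopology K) F (n + 1)
      (isTerminalTop (α := Opens K))).toEquiv
    (soft_HU_top_subsingleton F hF n)

end GrothLib.PBC25
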