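import Groth.Agent.Lib.PBC25.Stalk
import Groth.Agent.Lib.PBC25.SoftAcyclic
import Groth.Agent.Lib.RDerLES.CompAcyclic
import Groth.Agent.Lib.GrothSS.Site
import Groth.Agent.Lib.SheafCoh.PushInj
import Mathlib.Topology.Sheaves.Abelian
import Mathlib.Topology.Sheaves.Skyscraper

/-!
# Stalks of higher direct images along proper separated maps
-/

set_option autoImplicit false
set_option backward.isDefEq.respectTransparency false
set_option backward.isDefEq.respectTransparency.types false

universe u

open CategoryTheory CategoryTheory.Limits Opposite TopologicalSpace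

namespace GrothLib.PBC25

/-- The stalk functor on abelian sheaves. -/
noncomputable abbrev stalkF {Y : TopCat.{u}} (y : Y) : CohTop.Ab Y ⥤ AddCommGrpCat.{u} :=
  sheafToPresheaf (Opens.grothendieckTopology Y) AddCommGrpCat.{u} ⋙
    TopCat.Presheaf.stalkFunctor AddCommGrpCat.{u} y

theorem preservesFiniteLimits_stalkF {Y : TopCat.{u}} (y : Y) :
    PreservesFiniteLimits (stalkF y) :=
  inferInstanceAs (PreservesFiniteLimits
    (TopCat.Sheaf.forget AddCommGrpCat.{u} Y ⋙ TopCat.Presheaf.stalkFunctor AddCommGrpCat.{u} y))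

theorem preservesFiniteColimits_stalkF {Y : TopCat.{u}} (y : Y) :
    PreservesFiniteColimits (stalkF y) := by
  have : (stalkF y).IsLeftAdjoint := inferInstanceAs
    ((TopCat.Sheaf.forget AddCommGrpCat.{u} Y ⋙
      TopCat.Presheaf.stalkFunctor AddCommGrpCat.{u} y).IsLeftAdjoint)
  have : PreservesColimitsOfSize.{0, 0} (stalkF y) :=
    (Adjunction.ofIsLeftAdjoint (stalkF y)).leftAdjoint_preservesColimits
  infer_instance

theorem preservesFiniteColimits_pull {K X : TopCat.{u}} (i : K ⟶ X) :
    PreservesFiniteColimits (CohTop.pull i) :=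
  have : PreservesColimitsOfSize.{0, 0} (CohTop.pull i) :=
    (TopCat.Sheaf.pullbackPushforwardAdjunction AddCommGrpCat.{u} i).leftAdjoint_preservesColimits
  inferInstance

theorem additive_pull {K X : TopCat.{u}} (i : K ⟶ X) : (CohTop.pull i).Additive :=
  have := SheafCoh.preservesFiniteLimits_pull i
  Functor.additive_of_preserves_binary_products _

theorem additive_stalkF {Y : TopCat.{u}} (y : Y) : (stalkF y).Additive :=
  have := preservesFiniteLimits_stalkF y
  Functor.additive_of_preserves_binary_products _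

/-- Sections over the whole space are acyclic on restrictions of injectives. -/
theorem isZero_secAt_pull_injective {K X : TopCat.{u}} [CompactSpace K] (i : K ⟶ X)
    (hs : Separates i) (J : CohTop.Ab X) (hJ : Injective J) (k : ℕ) :
    IsZero (((GrothSS.secAt (Opens.grothendieckTopology K) ⊤).rightDerived (k + 1)).obj
      ((CohTop.pull i).obj J)) := by
  have := hs.t2 i
  have := SheafCoh.isFlasque_of_injective J
  have := soft_HU_top_subsingleton _ (isSoft_pull_of_flasque i J hs) k
  exact IsZero.of_iso (AddCommGrpCat.isZero_of_subsingleton _)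
    (GrothSS.rightDerivedSecAtIso (Opens.grothendieckTopology K) ⊤ ((CohTop.pull i).obj J) (k + 1))

/-- The derived functors of sections on a compact subspace. -/
theorem nonempty_rightDerived_fib {K X : TopCat.{u}} [CompactSpace K] (i : K ⟶ X)
    (hs : Separates i) [(CohTop.pull i).Additive] (F : CohTop.Ab X) (n : ℕ) :
    Nonempty (((CohTop.pull i ⋙ GrothSS.secAt (Opens.grothendieckTopology K) ⊤).rightDerived n).obj F
      ≅ AddCommGrpCat.of (CohTop.H ((CohTop.pull i).obj F) n)) := by
  have := SheafCoh.preservesFiniteLimits_pull i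
  have := preservesFiniteColimits_pull i
  obtain ⟨e⟩ := RDerLES.nonempty_rightDerived_comp_iso (CohTop.pull i)
    (GrothSS.secAt (Opens.grothendieckTopology K) ⊤) (isZero_secAt_pull_injective i hs) n F
  exact ⟨e ≪≫ GrothSS.rightDerivedSecAtIso (Opens.grothendieckTopology K) ⊤ _ n ≪≫
    (SheafCoh.HEquivHU (J := Opens.grothendieckTopology K) _ n
      (isTerminalTop (α := Opens K))).symm.toAddCommGrpIso⟩

variable {X Y : TopCat.{u}} {f : X ⟶ Y} {y : Y}

/-- Stalks of `f_*` as sections on the fibre, naturally. -/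
noncomputable def stalkPushIso (hf : IsProperMap f)
    (hs : ∀ x x' : X, f x = f x' → x ≠ x' →
      ∃ U V : Set X, IsOpen U ∧ IsOpen V ∧ x ∈ U ∧ x' ∈ V ∧ Disjoint U V) :
    CohTop.push f ⋙ stalkF y ≅ CohTop.pull (fibIncl f y) ⋙
      GrothSS.secAt (Opens.grothendieckTopology (TopCat.of (f ⁻¹' {y}))) ⊤ :=
  NatIso.ofComponents
    (fun F =>
      (AddEquiv.ofBijective (toFib f y F).hom (bijective_toFib hf hs F)).toAddCommGrpIso)
    (fun φ => toFib_naturality φ)

theorem nonempty_stalk_Rpush_iso (hf : IsProperMap f)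
    (hs : ∀ x x' : X, f x = f x' → x ≠ x' →
      ∃ U V : Set X, IsOpen U ∧ IsOpen V ∧ x ∈ U ∧ x' ∈ V ∧ Disjoint U V)
    (F : CohTop.Ab X) (p : ℕ) :
    Nonempty (CohTop.stalk ((CohTop.Rpush f p).obj F) y ≅
      AddCommGrpCat.of (CohTop.H ((CohTop.pull (fibIncl f y)).obj F) p)) := by
  have := compact_fib f y hf
  have := additive_pull (fibIncl f y)
  have := preservesFiniteLimits_stalkF y
  have := preservesFiniteColimits_stalkF y
  have := additive_stalkF y
  have : (stalkF y).PreservesHomology := Functor.preservesHomologyOfExact _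
  obtain ⟨e⟩ := nonempty_rightDerived_fib (fibIncl f y) (separates_fib f y hs) F p
  exact ⟨(SheafCoh.rightDerivedPostExactIso _ (CohTop.push f) (stalkF y)
    (stalkPushIso (y := y) hf hs).symm F p).symm ≪≫ e⟩

end GrothLib.PBC25
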