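import Groth.Agent.Lib.CohDesc25.LocalTop
import Groth.Prelude.Def_CohTop
import Mathlib.Topology.Sheaves.SheafCondition.UniqueGluing
import Mathlib.Topology.Compactness.LocallyCompact
import Mathlib.Topology.Separation.Regular

/-!
# Sections of an inverse image near a compact set
-/

set_option autoImplicit false
set_option backward.isDefEq.respectTransparency false
set_option backward.isDefEq.respectTransparency.types false

universe u

open CategoryTheory CategoryTheory.Limits Opposite TopologicalSpace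

namespace GrothLib.PBC25

open GrothLib.CohDesc25

section Glue

variable {X : TopCat.{u}} (F : CohTop.Ab X)

lemma res_res {U V W : Opens X} (h : V ≤ U) (h' : W ≤ V) (s : F.obj.obj (op U)) :
    F.obj.map (homOfLE h').op (F.obj.map (homOfLE h).op s) =
      F.obj.map (homOfLE (h'.trans h)).op s := by
  rw [← Functor.map_comp_apply, ← op_comp]
  rfl

lemma res_self {U : Opens X} (h : U ≤ U) (s : F.obj.obj (op U)) :
    F.obj.map (homOfLE h).op s = s := by
  rw [show (homOfLE h) = 𝟙 U from rfl, op_id, CategoryTheory.Functor.map_id]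
  rfl

lemma app_res {F G : CohTop.Ab X} (φ : F ⟶ G) {U V : Opens X} (h : V ≤ U)
    (s : F.obj.obj (op U)) :
    φ.hom.app (op V) (F.obj.map (homOfLE h).op s) =
      G.obj.map (homOfLE h).op (φ.hom.app (op U) s) :=
  NatTrans.naturality_apply φ.hom _ _

lemma eq_of_cover {U : Opens X} {s t : F.obj.obj (op U)}
    (h : ∀ x ∈ U, ∃ (W : Opens X) (hW : W ≤ U), x ∈ W ∧
      F.obj.map (homOfLE hW).op s = F.obj.map (homOfLE hW).op t) : s = t := by
  choose W hW hx he using h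
  refine TopCat.Sheaf.eq_of_locally_eq' (X := X) F (fun x : U => W x.1 x.2) U
    (fun x => homOfLE (hW x.1 x.2)) ?_ s t (fun x => he x.1 x.2)
  intro x hxU
  exact Opens.mem_iSup.2 ⟨⟨x, hxU⟩, hx x hxU⟩

lemma eq_zero_of_cover {U : Opens X} {s : F.obj.obj (op U)}
    (h : ∀ x ∈ U, ∃ (W : Opens X) (hW : W ≤ U), x ∈ W ∧ F.obj.map (homOfLE hW).op s = 0) :
    s = 0 :=
  eq_of_cover F fun x hx => by
    obtain ⟨W, hW, hxW, h0⟩ := h x hx
    exact ⟨W, hW, hxW, h0.trans (map_zero _).symm⟩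

lemma glue₂ {U₁ U₂ : Opens X} (s₁ : F.obj.obj (op U₁)) (s₂ : F.obj.obj (op U₂))
    (h : F.obj.map (homOfLE (inf_le_left : U₁ ⊓ U₂ ≤ U₁)).op s₁ =
      F.obj.map (homOfLE (inf_le_right : U₁ ⊓ U₂ ≤ U₂)).op s₂) :
    ∃ s : F.obj.obj (op (U₁ ⊔ U₂)), F.obj.map (homOfLE le_sup_left).op s = s₁ ∧
      F.obj.map (homOfLE le_sup_right).op s = s₂ := by
  let U : ULift.{u} Bool → Opens X := fun b => cond b.down U₁ U₂
  let sf : ∀ b, F.obj.obj (op (U b)) := fun
    | ⟨true⟩ => s₁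
    | ⟨false⟩ => s₂
  have hc : TopCat.Presheaf.IsCompatible F.obj U sf := by
    rintro ⟨_ | _⟩ ⟨_ | _⟩
    · rfl
    · have := congrArg (F.obj.map (homOfLE (inf_comm (U₂ : Opens X) U₁).le).op) h.symm
      rw [res_res, res_res] at this
      exact this
    · exact h
    · rfl
  obtain ⟨s, hs, -⟩ := TopCat.Sheaf.existsUnique_gluing' (X := X) F U (U₁ ⊔ U₂)
    (fun b => homOfLE (by rcases b with ⟨_ | _⟩ <;> simp [U])) (by
      refine sup_le ?_ ?_
      · exact le_iSup_of_le ⟨true⟩ le_rfl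
      · exact le_iSup_of_le ⟨false⟩ le_rfl) sf hc
  exact ⟨s, hs ⟨true⟩, hs ⟨false⟩⟩

/-- Every section near a closed set extends to the whole space after shrinking. -/
def IsSoft : Prop :=
  ∀ ⦃A : Set X⦄, IsClosed A → ∀ (U : Opens X), A ⊆ (U : Set X) → ∀ s : F.obj.obj (op U),
    ∃ (t : F.obj.obj (op ⊤)) (W : Opens X) (hW : W ≤ U), A ⊆ (W : Set X) ∧
      F.obj.map (homOfLE (le_top : W ≤ ⊤)).op t = F.obj.map (homOfLE hW).op s

end Glue

section Pull

variable {K X : TopCat.{u}} (i : K ⟶ X) (G : CohTop.Ab X)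

/-- The section of the inverse image coming from a section. -/
noncomputable def sec {W : Opens K} {V : Opens X} (h : W ≤ (Opens.map i).obj V) :
    G.obj.obj (op V) →+ ((CohTop.pull i).obj G).obj.obj (op W) :=
  atHom (Opens.grothendieckTopology K) (Opens.map i) G (homOfLE h)

theorem res_sec {W W' : Opens K} {V : Opens X} (h : W ≤ (Opens.map i).obj V) (h' : W' ≤ W)
    (g : G.obj.obj (op V)) :
    ((CohTop.pull i).obj G).obj.map (homOfLE h').op (sec i G h g) = sec i G (h'.trans h) g :=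
  map_atHom (K := Opens.grothendieckTopology K) (Opens.map i) G (homOfLE h') (homOfLE h) g

theorem sec_res {W : Opens K} {V V' : Opens X} (hV : V' ≤ V) (h : W ≤ (Opens.map i).obj V')
    (g : G.obj.obj (op V)) :
    sec i G h (G.obj.map (homOfLE hV).op g) =
      sec i G (h.trans fun _ hx => hV hx) g :=
  atHom_res (K := Opens.grothendieckTopology K) (Opens.map i) G (homOfLE hV) (homOfLE h) g

theorem app_sec {G' : CohTop.Ab X} (φ : G ⟶ G') {W : Opens K} {V : Opens X}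
    (h : W ≤ (Opens.map i).obj V) (g : G.obj.obj (op V)) :
    ((CohTop.pull i).map φ).hom.app (op W) (sec i G h g) = sec i G' h (φ.hom.app (op V) g) :=
  app_atHom (K := Opens.grothendieckTopology K) (Opens.map i) G φ (homOfLE h) g

theorem exists_sec_local {U : Opens K} (s : ((CohTop.pull i).obj G).obj.obj (op U)) (x : K)
    (hx : x ∈ U) :
    ∃ (W : Opens K) (hW : W ≤ U) (V : Opens X) (g : G.obj.obj (op V))
      (h : W ≤ (Opens.map i).obj V), x ∈ W ∧
        ((CohTop.pull i).obj G).obj.map (homOfLE hW).op s = sec i G h g := by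
  obtain ⟨W, hW, hxW, V, g, b, he⟩ := local_map i G s x hx
  exact ⟨W, hW, V, g, le_of_hom b, hxW, he⟩

theorem sec_zero_local {W : Opens K} {V : Opens X} (h : W ≤ (Opens.map i).obj V)
    (g : G.obj.obj (op V)) (h0 : sec i G h g = 0) (x : K) (hx : x ∈ W) :
    ∃ (V' : Opens X) (hV : V' ≤ V), i x ∈ V' ∧ G.obj.map (homOfLE hV).op g = 0 := by
  obtain ⟨V', hV, hxV, he⟩ := local_map_zero i G g (homOfLE h) h0 x hx
  exact ⟨V', hV, hxV, he⟩

/-- A section vanishing in the inverse image over `W` vanishes on an open containing `W`. -/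
theorem sec_zero {W : Opens K} {V : Opens X} (h : W ≤ (Opens.map i).obj V)
    (g : G.obj.obj (op V)) (h0 : sec i G h g = 0) :
    ∃ (V' : Opens X) (hV : V' ≤ V), W ≤ (Opens.map i).obj V' ∧
      G.obj.map (homOfLE hV).op g = 0 := by
  choose V' hV hm he using sec_zero_local i G h g h0
  refine ⟨⨆ x : W, V' x.1 x.2, iSup_le fun x => hV x.1 x.2,
    fun x hx => Opens.mem_iSup.2 ⟨⟨x, hx⟩, hm x hx⟩, ?_⟩
  refine eq_zero_of_cover G fun y hy => ?_
  obtain ⟨x, hxy⟩ := Opens.mem_iSup.1 hy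
  refine ⟨V' x.1 x.2, le_iSup (fun x : W => V' x.1 x.2) x, hxy, ?_⟩
  rw [res_res]
  exact he x.1 x.2

/-- Sections agreeing over `W` agree on an open containing `W`. -/
theorem sec_eq {W : Opens K} {V₁ V₂ : Opens X} (h₁ : W ≤ (Opens.map i).obj V₁)
    (h₂ : W ≤ (Opens.map i).obj V₂) (g₁ : G.obj.obj (op V₁)) (g₂ : G.obj.obj (op V₂))
    (he : sec i G h₁ g₁ = sec i G h₂ g₂) :
    ∃ (V : Opens X) (l₁ : V ≤ V₁) (l₂ : V ≤ V₂), W ≤ (Opens.map i).obj V ∧
      G.obj.map (homOfLE l₁).op g₁ = G.obj.map (homOfLE l₂).op g₂ := by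
  have h : W ≤ (Opens.map i).obj (V₁ ⊓ V₂) := fun x hx => ⟨h₁ hx, h₂ hx⟩
  obtain ⟨V, hV, hWV, h0⟩ := sec_zero i G h
    (G.obj.map (homOfLE inf_le_left).op g₁ - G.obj.map (homOfLE inf_le_right).op g₂) (by
      rw [map_sub, sec_res, sec_res]
      exact sub_eq_zero.2 he)
  refine ⟨V, hV.trans inf_le_left, hV.trans inf_le_right, hWV, ?_⟩
  rw [map_sub, res_res, res_res, sub_eq_zero] at h0
  exact h0

/-- A section of the inverse image coincides near `A` with a section downstairs. -/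
def Near {U : Opens K} (s : ((CohTop.pull i).obj G).obj.obj (op U)) (A : Set K) : Prop :=
  ∃ (V : Opens X) (g : G.obj.obj (op V)) (W : Opens K) (h : W ≤ (Opens.map i).obj V)
    (hW : W ≤ U), A ⊆ (W : Set K) ∧
      ((CohTop.pull i).obj G).obj.map (homOfLE hW).op s = sec i G h g

/-- Distinct points have disjoint neighbourhoods downstairs. -/
def Separates : Prop :=
  ∀ x y : K, x ≠ y → ∃ U V : Opens X, i x ∈ U ∧ i y ∈ V ∧ Disjoint (U : Set X) V

theorem Separates.t2 (hs : Separates i) : T2Space K := by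
  constructor
  intro x y hxy
  obtain ⟨U, V, hU, hV, hd⟩ := hs x y hxy
  exact ⟨i ⁻¹' U, i ⁻¹' V, U.isOpen.preimage i.hom.continuous,
    V.isOpen.preimage i.hom.continuous, hU, hV, hd.preimage i⟩

theorem Separates.nhds (hs : Separates i) {A B : Set K} (hA : IsCompact A) (hB : IsCompact B)
    (hd : Disjoint A B) : SeparatedNhds (i '' A) (i '' B) := by
  refine hA.induction_on (p := fun s => SeparatedNhds (i '' s) (i '' B)) ?_ ?_ ?_ ?_
  · simpa using SeparatedNhds.empty_left _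
  · exact fun s t hst h => h.mono (Set.image_mono hst) le_rfl
  · intro s t h₁ h₂
    rw [Set.image_union]
    exact h₁.union_left h₂
  · intro a ha
    have key : SeparatedNhds {i a} (i '' B) := by
      refine hB.induction_on (p := fun t => SeparatedNhds {i a} (i '' t)) ?_ ?_ ?_ ?_
      · simpa using SeparatedNhds.empty_right _
      · exact fun s t hst h => h.mono le_rfl (Set.image_mono hst)
      · intro s t h₁ h₂
        rw [Set.image_union]
        exact (h₁.symm.union_left h₂.symm).symm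
      · intro b hb
        obtain ⟨U, V, hU, hV, hUV⟩ := hs a b (fun e => hd.ne_of_mem ha hb e)
        refine ⟨i ⁻¹' V, mem_nhdsWithin_of_mem_nhds
          ((V.isOpen.preimage i.hom.continuous).mem_nhds hV), U, V, U.isOpen, V.isOpen,
          Set.singleton_subset_iff.2 hU, Set.image_preimage_subset _ _, hUV⟩
    obtain ⟨U, V, hU, hV, haU, hBV, hUV⟩ := key
    exact ⟨i ⁻¹' U, mem_nhdsWithin_of_mem_nhds
      ((hU.preimage i.hom.continuous).mem_nhds (show i a ∈ U from haU rfl)), U, V, hU, hV,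
      Set.image_preimage_subset _ _, hBV, hUV⟩

theorem near_union (hs : Separates i) {U : Opens K}
    (s : ((CohTop.pull i).obj G).obj.obj (op U)) {A B : Set K} (hA : IsCompact A)
    (hB : IsCompact B) (h₁ : Near i G s A) (h₂ : Near i G s B) : Near i G s (A ∪ B) := by
  obtain ⟨V₁, g₁, W₁, l₁, u₁, hA₁, e₁⟩ := h₁
  obtain ⟨V₂, g₂, W₂, l₂, u₂, hB₂, e₂⟩ := h₂
  have he : sec i G ((inf_le_left : W₁ ⊓ W₂ ≤ W₁).trans l₁) g₁ =
      sec i G ((inf_le_right : W₁ ⊓ W₂ ≤ W₂).trans l₂) g₂ := by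
    rw [← res_sec i G l₁ inf_le_left, ← res_sec i G l₂ inf_le_right, ← e₁, ← e₂, res_res, res_res]
  obtain ⟨V₀, m₁, m₂, hW₀, heq⟩ := sec_eq i G _ _ g₁ g₂ he
  have hO : IsOpen (i ⁻¹' (V₀ : Set X)) := V₀.isOpen.preimage i.hom.continuous
  obtain ⟨O₁, O₂, o₁, o₂, hAO, hBO, hdisj⟩ :=
    hs.nhds i (hA.diff hO) (hB.diff hO) (by
      rw [Set.disjoint_left]
      exact fun x hxA hxB => hxA.2 (hW₀ ⟨hA₁ hxA.1, hB₂ hxB.1⟩))
  let P₁ : Opens X := V₁ ⊓ (⟨O₁, o₁⟩ ⊔ V₀)
  let P₂ : Opens X := V₂ ⊓ (⟨O₂, o₂⟩ ⊔ V₀)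
  have hP : P₁ ⊓ P₂ ≤ V₀ := by
    rintro y ⟨⟨-, h₁ | h₁⟩, -, h₂ | h₂⟩
    · exact (Set.disjoint_left.1 hdisj h₁ h₂).elim
    all_goals assumption
  obtain ⟨g, hg₁, hg₂⟩ := glue₂ G (G.obj.map (homOfLE (inf_le_left : P₁ ≤ V₁)).op g₁)
    (G.obj.map (homOfLE (inf_le_left : P₂ ≤ V₂)).op g₂) (by
      have := congrArg (G.obj.map (homOfLE hP).op) heq
      rw [res_res, res_res] at this
      rw [res_res, res_res]
      exact this)
  let Q₁ : Opens K := W₁ ⊓ (Opens.map i).obj P₁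
  let Q₂ : Opens K := W₂ ⊓ (Opens.map i).obj P₂
  have hQ : Q₁ ⊔ Q₂ ≤ (Opens.map i).obj (P₁ ⊔ P₂) := by
    rintro x (hx | hx)
    · exact Or.inl hx.2
    · exact Or.inr hx.2
  refine ⟨P₁ ⊔ P₂, g, Q₁ ⊔ Q₂, hQ, sup_le (inf_le_left.trans u₁) (inf_le_left.trans u₂), ?_, ?_⟩
  · rintro x (hx | hx)
    · refine Or.inl ⟨hA₁ hx, l₁ (hA₁ hx), ?_⟩
      by_cases h0 : i x ∈ V₀
      · exact Or.inr h0
      · exact Or.inl (hAO ⟨x, ⟨hx, h0⟩, rfl⟩)
    · refine Or.inr ⟨hB₂ hx, l₂ (hB₂ hx), ?_⟩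
      by_cases h0 : i x ∈ V₀
      · exact Or.inr h0
      · exact Or.inl (hBO ⟨x, ⟨hx, h0⟩, rfl⟩)
  · refine eq_of_cover _ fun x hx => ?_
    rcases hx with hx | hx
    · refine ⟨Q₁, le_sup_left, hx, ?_⟩
      rw [res_res, res_sec,
        ← sec_res i G (le_sup_left : P₁ ≤ P₁ ⊔ P₂) (inf_le_right : Q₁ ≤ _) g, hg₁, sec_res,
        ← res_res _ u₁ (inf_le_left : Q₁ ≤ W₁), e₁, res_sec]
    · refine ⟨Q₂, le_sup_right, hx, ?_⟩
      rw [res_res, res_sec,
        ← sec_res i G (le_sup_right : P₂ ≤ P₁ ⊔ P₂) (inf_le_right : Q₂ ≤ _) g, hg₂, sec_res,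
        ← res_res _ u₂ (inf_le_left : Q₂ ≤ W₂), e₂, res_sec]

/-- Near a compact set, sections of the inverse image come from sections downstairs. -/
theorem exists_near [CompactSpace K] (hs : Separates i) {U : Opens K}
    (s : ((CohTop.pull i).obj G).obj.obj (op U)) {A : Set K} (hA : IsClosed A)
    (hAU : A ⊆ (U : Set K)) : Near i G s A := by
  have := hs.t2 i
  suffices h : Near i G s (closure A) by rw [← hA.closure_eq]; exact h
  refine hA.isCompact.induction_on (p := fun S => Near i G s (closure S)) ?_ ?_ ?_ ?_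
  · exact ⟨⊥, 0, ⊥, bot_le, bot_le, by simp, eq_of_cover _ fun x hx => hx.elim⟩
  · rintro S T hST ⟨V, g, W, l, u, hTW, e⟩
    exact ⟨V, g, W, l, u, (closure_mono hST).trans hTW, e⟩
  · intro S T h₁ h₂
    rw [closure_union]
    exact near_union i G hs s (isClosed_closure.isCompact) (isClosed_closure.isCompact)
      h₁ h₂
  · intro x hx
    obtain ⟨W, hW, V, g, l, hxW, e⟩ := exists_sec_local i G s x (hAU hx)
    obtain ⟨N, hNc, hxN, hNW⟩ := exists_compact_subset W.isOpen hxW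
    exact ⟨interior N, mem_nhdsWithin_of_mem_nhds (isOpen_interior.mem_nhds hxN),
      ⟨V, g, W, l, hW, (closure_minimal interior_subset hNc.isClosed).trans hNW, e⟩⟩

end Pull

end GrothLib.PBC25
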