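import Groth.Agent.Lib.PBC25.Extend
import Mathlib.Topology.Sheaves.Flasque

/-!
# Inverse images of flasque sheaves are soft
-/

set_option autoImplicit false
set_option backward.isDefEq.respectTransparency false
set_option backward.isDefEq.respectTransparency.types false

universe u

open CategoryTheory CategoryTheory.Limits Opposite TopologicalSpace

namespace GrothLib.PBC25

variable {K X : TopCat.{u}} (i : K ⟶ X) (G : CohTop.Ab X)

theorem exists_global [h : TopCat.Sheaf.IsFlasque G] {V : Opens X} (g : G.obj.obj (op V)) :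
    ∃ t : G.obj.obj (op ⊤), G.obj.map (homOfLE (le_top : V ≤ ⊤)).op t = g :=
  (AddCommGrpCat.epi_iff_surjective _).1 (h.epi (homOfLE (le_top : V ≤ ⊤)).op) g

theorem isSoft_pull_of_flasque [CompactSpace K] (hs : Separates i) [TopCat.Sheaf.IsFlasque G] :
    IsSoft ((CohTop.pull i).obj G) := by
  intro A hA U hAU s
  obtain ⟨V, g, W, h, hW, hAW, e⟩ := exists_near i G hs s hA hAU
  obtain ⟨t, rfl⟩ := exists_global G g
  refine ⟨sec i G (W := ⊤) (V := ⊤) (fun _ _ => trivial) t, W, hW, hAW, ?_⟩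
  rw [res_sec, e, sec_res]

theorem global_of_near [CompactSpace K] (hs : Separates i) (hG : IsSoft G)
    (hA : IsClosed (Set.range i)) (t : ((CohTop.pull i).obj G).obj.obj (op ⊤)) :
    ∃ t₀ : G.obj.obj (op ⊤),
      sec i G (W := ⊤) (V := ⊤) (fun _ _ => trivial) t₀ = t := by
  obtain ⟨V, g, W, h, hW, hKW, e⟩ := exists_near i G hs t isClosed_univ (by simp)
  obtain ⟨t₀, V', hV', hr, e'⟩ := hG hA V (by
    rintro _ ⟨x, rfl⟩
    exact h (hKW trivial)) g
  refine ⟨t₀, eq_of_cover _ fun x _ => ⟨W ⊓ (Opens.map i).obj V', le_top,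
    ⟨hKW trivial, hr ⟨x, rfl⟩⟩, ?_⟩⟩
  rw [← res_res _ hW inf_le_left t, e, res_sec, res_sec]
  rw [← sec_res i G (le_top : V' ≤ ⊤) inf_le_right t₀, e', sec_res]

end GrothLib.PBC25
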