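import Groth.Agent.Lib.PBC25.StalkDerived
import Mathlib.CategoryTheory.Limits.Filtered
import Mathlib.Algebra.Category.Grp.AB

/-!
# Cohomology of a compact subset as a colimit over neighbourhoods
-/

set_option autoImplicit false
set_option backward.isDefEq.respectTransparency false
set_option backward.isDefEq.respectTransparency.types false

universe u

open CategoryTheory CategoryTheory.Limits Opposite TopologicalSpace

namespace GrothLib.PBC25

variable {X : TopCat.{u}} (Z : Set X)

/-- Open neighbourhoods of a subset. -/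
abbrev Nbhd : ObjectProperty (Opens X)ᵒᵖ := fun U => Z ⊆ (U.unop : Set X)

/-- The inclusion of a subspace. -/
def subIncl : TopCat.of Z ⟶ X := TopCat.ofHom ⟨Subtype.val, continuous_subtype_val⟩

theorem isFiltered_nbhd : IsFiltered (Nbhd Z).FullSubcategory where
  cocone_objs A B :=
    ⟨⟨op (A.obj.unop ⊓ B.obj.unop), fun x hx => ⟨A.property hx, B.property hx⟩⟩,
      ObjectProperty.homMk (homOfLE inf_le_left).op, ObjectProperty.homMk (homOfLE inf_le_right).op,
      trivial⟩
  cocone_maps A B a b := ⟨B, 𝟙 B, by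
    rw [show a = b from InducedCategory.hom_ext (Subsingleton.elim _ _)]⟩
  nonempty := ⟨⟨op ⊤, fun _ _ => trivial⟩⟩

attribute [local instance] isFiltered_nbhd

/-- Colimit over the open neighbourhoods. -/
noncomputable abbrev nbhdColim : ((Opens X)ᵒᵖ ⥤ AddCommGrpCat.{u}) ⥤ AddCommGrpCat.{u} :=
  (Functor.whiskeringLeft _ _ AddCommGrpCat.{u}).obj (Nbhd Z).ι ⋙ colim

theorem top_le_sub {U : (Opens X)ᵒᵖ} (hU : Nbhd Z U) :
    (⊤ : Opens (TopCat.of Z)) ≤ (Opens.map (subIncl Z)).obj U.unop := fun x _ => hU x.2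

/-- The cocone of restrictions to the subspace. -/
noncomputable def subCocone (F : CohTop.Ab X) : Cocone ((Nbhd Z).ι ⋙ F.obj) where
  pt := ((CohTop.pull (subIncl Z)).obj F).obj.obj (op ⊤)
  ι :=
    { app := fun U => AddCommGrpCat.ofHom (sec (subIncl Z) F (top_le_sub Z U.property))
      naturality := fun U V a => by
        ext g
        exact sec_res (subIncl Z) F (leOfHom a.hom.unop) (top_le_sub Z V.property) g }

/-- Restriction to the subspace from the colimit of sections. -/
noncomputable def toSub (F : CohTop.Ab X) :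
    (nbhdColim Z).obj F.obj ⟶ ((CohTop.pull (subIncl Z)).obj F).obj.obj (op ⊤) :=
  colimit.desc _ (subCocone Z F)

theorem toSub_ι (F : CohTop.Ab X) (U : (Nbhd Z).FullSubcategory) (g : F.obj.obj U.obj) :
    toSub Z F (colimit.ι ((Nbhd Z).ι ⋙ F.obj) U g) =
      sec (subIncl Z) F (top_le_sub Z U.property) g :=
  ConcreteCategory.congr_hom (colimit.ι_desc (subCocone Z F) U) g

theorem bijective_toSub [CompactSpace (TopCat.of Z)] (hs : Separates (subIncl Z))
    (F : CohTop.Ab X) : Function.Bijective (toSub Z F) := by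
  constructor
  · rw [injective_iff_map_eq_zero]
    intro a ha
    obtain ⟨U, g, rfl⟩ := Concrete.colimit_exists_rep _ a
    replace ha := (toSub_ι Z F U g).symm.trans ha
    obtain ⟨V, hV, hT, h0⟩ := sec_zero (subIncl Z) F (top_le_sub Z U.property) g ha
    let B : (Nbhd Z).FullSubcategory :=
      ⟨op V, fun x hx => hT (show (⟨x, hx⟩ : Z) ∈ (⊤ : Opens (TopCat.of Z)) from trivial)⟩
    refine (colimit.w_apply ((Nbhd Z).ι ⋙ F.obj)
      (ObjectProperty.homMk (homOfLE hV).op : U ⟶ B) g).symm.trans ?_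
    exact (congrArg (colimit.ι ((Nbhd Z).ι ⋙ F.obj) B) h0).trans (map_zero _)
  · intro t
    obtain ⟨V, g, W, h, hW, hK, e⟩ := exists_near (subIncl Z) F hs t isClosed_univ (by simp)
    obtain rfl : W = ⊤ := eq_top_iff.2 fun x _ => hK trivial
    let B : (Nbhd Z).FullSubcategory :=
      ⟨op V, fun x hx => h (show (⟨x, hx⟩ : Z) ∈ (⊤ : Opens (TopCat.of Z)) from trivial)⟩
    exact ⟨colimit.ι ((Nbhd Z).ι ⋙ F.obj) B g,
      (toSub_ι Z F B g).trans (e.symm.trans (res_self _ hW t))⟩

theorem toSub_naturality {F G : CohTop.Ab X} (φ : F ⟶ G) :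
    (nbhdColim Z).map φ.hom ≫ toSub Z G =
      toSub Z F ≫ ((CohTop.pull (subIncl Z)).map φ).hom.app (op ⊤) := by
  refine colimit.hom_ext fun U => ?_
  ext g
  refine (congrArg (toSub Z G) (ConcreteCategory.congr_hom
    (ι_colimMap (Functor.whiskerLeft (Nbhd Z).ι φ.hom) U) g)).trans ?_
  refine (toSub_ι Z G U _).trans ?_
  exact (app_sec (subIncl Z) F φ (top_le_sub Z U.property) g).symm.trans
    (congrArg (((CohTop.pull (subIncl Z)).map φ).hom.app (op ⊤)) (toSub_ι Z F U g)).symm

theorem nonempty_colim_HU_iso (hZ : IsCompact Z) (hs : Separates (subIncl Z))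
    (F : CohTop.Ab X) (p : ℕ) :
    Nonempty ((nbhdColim Z).obj (Sheaf.cohomologyPresheaf.{u} F p) ≅
      AddCommGrpCat.of (CohTop.H ((CohTop.pull (subIncl Z)).obj F) p)) := by
  have : CompactSpace (TopCat.of Z) := isCompact_iff_compactSpace.1 hZ
  have := additive_pull (subIncl Z)
  have := SheafCoh.preservesFiniteLimits_pull (subIncl Z)
  have : (nbhdColim Z).PreservesHomology := Functor.preservesHomologyOfExact _
  have : (nbhdColim Z).Additive := Functor.additive_of_preserves_binary_products _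
  let Φ := CohTop.pull (subIncl Z) ⋙
    GrothSS.secAt (Opens.grothendieckTopology (TopCat.of Z)) ⊤
  let e : sheafToPresheaf (Opens.grothendieckTopology X) AddCommGrpCat.{u} ⋙ nbhdColim Z ≅ Φ :=
    NatIso.ofComponents
      (fun F => (AddEquiv.ofBijective (toSub Z F).hom (bijective_toSub Z hs F)).toAddCommGrpIso)
      (fun φ => toSub_naturality Z φ)
  obtain ⟨e'⟩ := nonempty_rightDerived_fib (subIncl Z) hs F p
  exact ⟨(SheafCoh.rightDerivedCompIso Φ (nbhdColim Z) e.symm F p).symm ≪≫ e'⟩

end GrothLib.PBC25
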