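import Groth.Agent.Lib.PBC25.Flasque
import Mathlib.Topology.Sheaves.Stalks
import Mathlib.Topology.Maps.Proper.Basic

/-!
# Stalks of direct images along proper separated maps are sections on fibres
-/

set_option autoImplicit false
set_option backward.isDefEq.respectTransparency false
set_option backward.isDefEq.respectTransparency.types false

universe u

open CategoryTheory CategoryTheory.Limits Opposite TopologicalSpace

namespace GrothLib.PBC25

variable {X Y : TopCat.{u}} (f : X ⟶ Y) (y : Y)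

/-- The inclusion of a fibre. -/
def fibIncl : TopCat.of (f ⁻¹' {y}) ⟶ X :=
  TopCat.ofHom ⟨((↑) : f ⁻¹' {y} → X), continuous_subtype_val⟩

theorem separates_fib
    (hs : ∀ x x' : X, f x = f x' → x ≠ x' →
      ∃ U V : Set X, IsOpen U ∧ IsOpen V ∧ x ∈ U ∧ x' ∈ V ∧ Disjoint U V) :
    Separates (fibIncl f y) := by
  intro x x' hxx
  obtain ⟨U, V, hU, hV, hxU, hxV, hd⟩ :=
    hs x.1 x'.1 (x.2.trans x'.2.symm) (fun e => hxx (Subtype.ext e))
  exact ⟨⟨U, hU⟩, ⟨V, hV⟩, hxU, hxV, hd⟩

theorem compact_fib (hf : IsProperMap f) : CompactSpace (TopCat.of (f ⁻¹' {y})) :=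
  isCompact_iff_compactSpace.1 (hf.isCompact_preimage isCompact_singleton)

theorem top_le {V : Opens Y} (hV : y ∈ V) :
    (⊤ : Opens (TopCat.of (f ⁻¹' {y}))) ≤ (Opens.map (fibIncl f y)).obj ((Opens.map f).obj V) := by
  intro z _
  change f z.1 ∈ V
  rw [show f z.1 = y from z.2]
  exact hV

/-- The cocone of restrictions to the fibre. -/
noncomputable def fibCocone (F : CohTop.Ab X) :
    Cocone (((Functor.whiskeringLeft _ _ AddCommGrpCat.{u}).obj (OpenNhds.inclusion y).op).obj
      ((CohTop.push f).obj F).obj) where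
  pt := ((CohTop.pull (fibIncl f y)).obj F).obj.obj (op ⊤)
  ι :=
    { app := fun V => AddCommGrpCat.ofHom (sec (fibIncl f y) F (top_le f y V.unop.2))
      naturality := fun V V' a => by
        ext g
        exact sec_res (fibIncl f y) F (leOfHom ((Opens.map f).map ((OpenNhds.inclusion y).map a.unop)))
          (top_le f y V'.unop.2) g }

/-- Restriction of a germ of `f_* F` to the fibre. -/
noncomputable def toFib (F : CohTop.Ab X) :
    CohTop.stalk ((CohTop.push f).obj F) y ⟶
      ((CohTop.pull (fibIncl f y)).obj F).obj.obj (op ⊤) :=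
  colimit.desc _ (fibCocone f y F)

theorem toFib_germ (F : CohTop.Ab X) {V : Opens Y} (hV : y ∈ V)
    (g : F.obj.obj (op ((Opens.map f).obj V))) :
    toFib f y F (TopCat.Presheaf.germ ((CohTop.push f).obj F).obj V y hV g) =
      sec (fibIncl f y) F (top_le f y hV) g :=
  ConcreteCategory.congr_hom (colimit.ι_desc (fibCocone f y F) (op ⟨V, hV⟩)) g

variable {f y}

theorem exists_tube (hf : IsProperMap f) {U : Opens X}
    (hU : (⊤ : Opens (TopCat.of (f ⁻¹' {y}))) ≤ (Opens.map (fibIncl f y)).obj U) :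
    ∃ V : Opens Y, y ∈ V ∧ (Opens.map f).obj V ≤ U := by
  refine ⟨⟨(f '' (U : Set X)ᶜ)ᶜ, (hf.isClosedMap _ U.isOpen.isClosed_compl).isOpen_compl⟩, ?_, ?_⟩
  · rintro ⟨x, hx, hxy⟩
    exact hx (hU (show (⟨x, hxy⟩ : f ⁻¹' {y}) ∈ (⊤ : Opens (TopCat.of (f ⁻¹' {y}))) from trivial))
  · intro x hx
    by_contra hxU
    exact hx ⟨x, hxU, rfl⟩

theorem bijective_toFib (hf : IsProperMap f)
    (hs : ∀ x x' : X, f x = f x' → x ≠ x' →
      ∃ U V : Set X, IsOpen U ∧ IsOpen V ∧ x ∈ U ∧ x' ∈ V ∧ Disjoint U V)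
    (F : CohTop.Ab X) : Function.Bijective (toFib f y F) := by
  have := compact_fib f y hf
  constructor
  · rw [injective_iff_map_eq_zero]
    intro a ha
    obtain ⟨V, hV, g, rfl⟩ := TopCat.Presheaf.germ_exist ((CohTop.push f).obj F).obj a
    rw [toFib_germ] at ha
    obtain ⟨U, hU, hT, h0⟩ := sec_zero (fibIncl f y) F (top_le f y hV) g ha
    obtain ⟨V', hV', hVU⟩ := exists_tube hf hT
    have e : F.obj.map (homOfLE ((Opens.map f).map (homOfLE (inf_le_left : V ⊓ V' ≤ V))).le).op g = 0 := by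
      rw [← res_res F hU ((fun x hx => hVU hx.2) : (Opens.map f).obj (V ⊓ V') ≤ U) g, h0, map_zero]
    refine (TopCat.Presheaf.germ_res_apply ((CohTop.push f).obj F).obj
      (homOfLE (inf_le_left : V ⊓ V' ≤ V)) y ⟨hV, hV'⟩ g).symm.trans ?_
    refine (congrArg (TopCat.Presheaf.germ ((CohTop.push f).obj F).obj (V ⊓ V') y ⟨hV, hV'⟩) e).trans
      (map_zero _)
  · intro t
    obtain ⟨U, g, W, h, hW, hKW, e⟩ :=
      exists_near (fibIncl f y) F (separates_fib f y hs) t isClosed_univ (by simp)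
    obtain rfl : W = ⊤ := eq_top_iff.2 fun x _ => hKW trivial
    obtain ⟨V, hV, hVU⟩ := exists_tube hf h
    refine ⟨TopCat.Presheaf.germ ((CohTop.push f).obj F).obj V y hV
      (F.obj.map (homOfLE hVU).op g), ?_⟩
    rw [toFib_germ, sec_res, ← e, res_self]

theorem toFib_naturality {F G : CohTop.Ab X} (φ : F ⟶ G) :
    (TopCat.Presheaf.stalkFunctor AddCommGrpCat.{u} y).map ((CohTop.push f).map φ).hom ≫
        toFib f y G =
      toFib f y F ≫ ((CohTop.pull (fibIncl f y)).map φ).hom.app (op ⊤) := by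
  refine TopCat.Presheaf.stalk_hom_ext _ fun V hV => ?_
  ext g
  change toFib f y G _ = _
  refine (congrArg (toFib f y G)
    (TopCat.Presheaf.stalkFunctor_map_germ_apply V y hV ((CohTop.push f).map φ).hom g)).trans ?_
  refine (toFib_germ f y G hV _).trans ?_
  refine Eq.trans ?_ (congrArg (((CohTop.pull (fibIncl f y)).map φ).hom.app (op ⊤))
    (toFib_germ f y F hV g)).symm
  exact (app_sec (fibIncl f y) F φ (top_le f y hV) g).symm

end GrothLib.PBC25
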